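/- `π`-parts of elements and commuting pairs of `π`-elements in cosets. -/
import Mathlib

namespace CfsgLib.PiClasses69

open scoped Classical

variable {G : Type*} [Group G] [Finite G]

/-- All prime divisors of the order of `g` lie in `π`. -/
def IsPi (π : Set ℕ) (g : G) : Prop := ∀ q : ℕ, q.Prime → q ∣ orderOf g → q ∈ π

/-- All prime divisors of the order of `g` lie outside `π`. -/
def IsPiCompl (π : Set ℕ) (g : G) : Prop := ∀ q : ℕ, q.Prime → q ∣ orderOf g → q ∉ π

theorem exists_exponent (G : Type*) [Group G] [Finite G] (π : Set ℕ) :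
    ∃ e : ℕ, (∀ g : G, IsPi π g → g ^ e = g) ∧ (∀ g : G, IsPiCompl π g → g ^ e = 1) ∧
      (∀ g : G, IsPi π (g ^ e) ∧ ∃ f : ℕ, IsPiCompl π (g ^ f) ∧ g = g ^ e * g ^ f) := by
  classical
  set N := Nat.card G with hN
  set N1 := ∏ p ∈ N.primeFactors with p ∈ π, p ^ N.factorization p with hN1
  set N2 := ∏ p ∈ N.primeFactors with p ∉ π, p ^ N.factorization p with hN2
  have hmul : N1 * N2 = N := by
    rw [hN1, hN2, Finset.prod_filter_mul_prod_filter_not]
    have h0 := Nat.prod_factorization_pow_eq_self (n := N) Nat.card_pos.ne'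
    rw [Finsupp.prod, Nat.support_factorization] at h0
    exact h0
  have h1 : ∀ q : ℕ, q.Prime → q ∣ N1 → q ∈ π := by
    intro q hq h
    obtain ⟨p, hp, hqp⟩ := (Prime.dvd_finsetProd_iff hq.prime _).mp h
    obtain ⟨hp1, hp2⟩ := Finset.mem_filter.mp hp
    rwa [(Nat.prime_dvd_prime_iff_eq hq (Nat.prime_of_mem_primeFactors hp1)).mp (hq.dvd_of_dvd_pow hqp)]
  have h2 : ∀ q : ℕ, q.Prime → q ∣ N2 → q ∉ π := by
    intro q hq h
    obtain ⟨p, hp, hqp⟩ := (Prime.dvd_finsetProd_iff hq.prime _).mp h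
    obtain ⟨hp1, hp2⟩ := Finset.mem_filter.mp hp
    rwa [(Nat.prime_dvd_prime_iff_eq hq (Nat.prime_of_mem_primeFactors hp1)).mp (hq.dvd_of_dvd_pow hqp)]
  have hcop : Nat.Coprime N1 N2 :=
    Nat.coprime_of_dvd fun q hq a b => h2 q hq b (h1 q hq a)
  have hd1 : ∀ g : G, IsPi π g → orderOf g ∣ N1 := by
    intro g hg
    refine Nat.Coprime.dvd_of_dvd_mul_right ?_ ((orderOf_dvd_natCard g).trans hmul.symm.dvd)
    exact Nat.coprime_of_dvd fun q hq a b => h2 q hq b (hg q hq a)
  have hd2 : ∀ g : G, IsPiCompl π g → orderOf g ∣ N2 := by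
    intro g hg
    refine Nat.Coprime.dvd_of_dvd_mul_left ?_ ((orderOf_dvd_natCard g).trans hmul.symm.dvd)
    exact Nat.coprime_of_dvd fun q hq a b => hg q hq a (h1 q hq b)
  obtain ⟨e, he1, he2⟩ := Nat.chineseRemainder hcop 1 0
  obtain ⟨f, hf1, hf2⟩ := Nat.chineseRemainder hcop 0 1
  refine ⟨e, fun g hg => ?_, fun g hg => ?_, fun g => ⟨?_, f, ?_, ?_⟩⟩
  · conv_rhs => rw [← pow_one g]
    exact pow_eq_pow_iff_modEq.mpr (he1.of_dvd (hd1 g hg))
  · rw [← orderOf_dvd_iff_pow_eq_one]
    exact (hd2 g hg).trans (Nat.modEq_zero_iff_dvd.mp he2)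
  · intro q hq h
    refine h1 q hq (h.trans (orderOf_dvd_of_pow_eq_one ?_))
    rw [← pow_mul, ← orderOf_dvd_iff_pow_eq_one]
    exact (orderOf_dvd_natCard g).trans (hmul.symm.dvd.trans (by rw [mul_comm N1 N2]; exact Nat.mul_dvd_mul_right (Nat.modEq_zero_iff_dvd.mp he2) N1))
  · intro q hq h
    refine h2 q hq (h.trans (orderOf_dvd_of_pow_eq_one ?_))
    rw [← pow_mul, ← orderOf_dvd_iff_pow_eq_one]
    exact (orderOf_dvd_natCard g).trans (hmul.symm.dvd.trans (Nat.mul_dvd_mul_right (Nat.modEq_zero_iff_dvd.mp hf1) N2))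
  · rw [← pow_add]
    conv_lhs => rw [← pow_one g]
    refine pow_eq_pow_iff_modEq.mpr (Nat.ModEq.of_dvd (orderOf_dvd_natCard g) ?_)
    show 1 ≡ e + f [MOD N]
    rw [← hmul]
    refine ((Nat.modEq_and_modEq_iff_modEq_mul hcop).mp ⟨?_, ?_⟩).symm
    · exact he1.add hf1
    · exact he2.add hf2

/-- A fixed exponent extracting `π`-parts. -/
noncomputable def piExp (G : Type*) [Group G] [Finite G] (π : Set ℕ) : ℕ :=
  (exists_exponent G π).choose

/-- The `π`-part of `g`. -/
noncomputable def piPart (π : Set ℕ) (g : G) : G := g ^ piExp G π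

/-- The `π'`-part of `g`. -/
noncomputable def piComplPart (π : Set ℕ) (g : G) : G := (piPart π g)⁻¹ * g

variable (π : Set ℕ)

theorem isPi_piPart (g : G) : IsPi π (piPart π g) := ((exists_exponent G π).choose_spec.2.2 g).1

theorem isPiCompl_piComplPart (g : G) : IsPiCompl π (piComplPart π g) := by
  obtain ⟨f, hf, he⟩ := ((exists_exponent G π).choose_spec.2.2 g).2
  have he' : g = piPart π g * g ^ f := he
  have : piComplPart π g = g ^ f := by
    unfold piComplPart
    rw [inv_mul_eq_iff_eq_mul]; exact he'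
  rw [this]; exact hf

theorem piPart_mul (g : G) : piPart π g * piComplPart π g = g := mul_inv_cancel_left _ _

theorem commute_parts (g : G) : Commute (piPart π g) (piComplPart π g) := by
  have h : Commute (piPart π g) g := Commute.pow_self g _
  exact ((Commute.refl (piPart π g)).inv_right).mul_right h

theorem commute_piPart {g h : G} (hc : Commute h g) : Commute h (piPart π g) := hc.pow_right _

theorem commute_piComplPart {g h : G} (hc : Commute h g) : Commute h (piComplPart π g) :=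
  ((commute_piPart π hc).inv_right).mul_right hc

theorem piPart_of_commute {y w : G} (hy : IsPi π y) (hw : IsPiCompl π w) (hc : Commute y w) :
    piPart π (y * w) = y ∧ piComplPart π (y * w) = w := by
  have h1 : piPart π (y * w) = y := by
    unfold piPart piExp
    rw [hc.mul_pow, (exists_exponent G π).choose_spec.1 y hy,
      (exists_exponent G π).choose_spec.2.1 w hw, mul_one]
  refine ⟨h1, ?_⟩
  unfold piComplPart
  rw [h1, inv_mul_cancel_left]

variable {π}

theorem isPiCompl_one : IsPiCompl π (1 : G) := fun q hq h => by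
  rw [orderOf_one, Nat.dvd_one] at h; exact absurd h hq.ne_one

/-- If `z` lies in a coset of `M` of a `π`-element then its `π'`-part lies in `M`. -/
theorem piComplPart_mem {M : Subgroup G} {x : G} (hx : IsPi π x)
    (hn : x ∈ Subgroup.normalizer (M : Set G)) {z : G} (hz : x⁻¹ * z ∈ M) : piComplPart π z ∈ M := by
  set H := Subgroup.normalizer (M : Set G)
  have hMH : M ≤ H := Subgroup.le_normalizer
  have hzH : z ∈ H := by
    have := H.mul_mem hn (hMH hz)
    rwa [mul_inv_cancel_left] at this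
  haveI : (M.subgroupOf H).Normal := Subgroup.normal_in_normalizer
  let q : H →* H ⧸ M.subgroupOf H := QuotientGroup.mk' _
  have hwH : piComplPart π z ∈ H := H.mul_mem (H.inv_mem (H.pow_mem hzH _)) hzH
  have hqe : q ⟨z, hzH⟩ = q ⟨x, hn⟩ := by
    symm; simp only [q, QuotientGroup.mk'_apply, QuotientGroup.eq]; exact hz
  have key : q ⟨piComplPart π z, hwH⟩ = 1 := by
    rw [← orderOf_eq_one_iff]
    by_contra hne
    obtain ⟨r, hr, hdvd⟩ := Nat.exists_prime_and_dvd hne
    have d1 : orderOf (q ⟨piComplPart π z, hwH⟩) ∣ orderOf (piComplPart π z) := by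
      refine (orderOf_map_dvd q _).trans ?_
      rw [Subgroup.orderOf_mk]
    refine isPiCompl_piComplPart π z r hr (hdvd.trans d1) (hx r hr (hdvd.trans ?_))
    have hw' : (⟨piComplPart π z, hwH⟩ : H) =
        ((⟨z, hzH⟩ : H) ^ piExp G π)⁻¹ * ⟨z, hzH⟩ := rfl
    rw [hw', map_mul, map_inv, map_pow, hqe, ← Subgroup.orderOf_mk x hn]
    refine (orderOf_dvd_of_pow_eq_one ?_).trans (orderOf_map_dvd q _)
    rw [((((Commute.refl (q ⟨x, hn⟩)).pow_left _)).inv_left).mul_pow, inv_pow, ← pow_mul,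
      mul_comm, pow_mul, pow_orderOf_eq_one, one_pow, inv_one, one_mul]
  exact (QuotientGroup.eq_one_iff (N := M.subgroupOf H) _).mp key

end CfsgLib.PiClasses69
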