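/- `p`-parts, Sylow absorption and twisting of cyclic `p`-groups. -/
import Mathlib

namespace CfsgLib.PTools69

variable {G : Type*} [Group G] [Finite G] {p : ℕ} [Fact p.Prime]

omit [Fact p.Prime] in
/-- A power coprime to the order generates. -/
theorem mem_of_pow_mem {H : Subgroup G} {g : G} {n : ℕ} (hn : Nat.Coprime n (orderOf g))
    (h : g ^ n ∈ H) : g ∈ H := by
  obtain ⟨m, hm⟩ := exists_pow_eq_self_of_coprime hn
  rw [← hm]; exact H.pow_mem h m

/-- Decomposition into `p`-part and `p'`-part. -/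
theorem exists_parts (g : G) : ∃ e f : ℕ, g = g ^ e * g ^ f ∧
    (∃ k : ℕ, (g ^ e) ^ p ^ k = 1) ∧ ¬ p ∣ orderOf (g ^ f) := by
  have hp : p.Prime := Fact.out
  obtain ⟨k, m, hm, hk⟩ := Nat.exists_eq_pow_mul_and_not_dvd (orderOf_pos g).ne' p hp.ne_one
  have hcop : Nat.Coprime (p ^ k) m := ((hp.coprime_iff_not_dvd).mpr hm).pow_left k
  obtain ⟨e, he1, he2⟩ := Nat.chineseRemainder hcop 1 0
  obtain ⟨f, hf1, hf2⟩ := Nat.chineseRemainder hcop 0 1
  refine ⟨e, f, ?_, ⟨k, ?_⟩, fun h => hm (h.trans (orderOf_dvd_of_pow_eq_one ?_))⟩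
  · rw [← pow_add]
    conv_lhs => rw [← pow_one g]
    refine pow_eq_pow_iff_modEq.mpr ?_
    rw [hk]
    exact ((Nat.modEq_and_modEq_iff_modEq_mul hcop).mp ⟨he1.add hf1, he2.add hf2⟩).symm
  · rw [← pow_mul, ← orderOf_dvd_iff_pow_eq_one, hk]
    obtain ⟨c, hc⟩ := Nat.modEq_zero_iff_dvd.mp he2
    exact ⟨c, by rw [hc]; ring⟩
  · rw [← pow_mul, ← orderOf_dvd_iff_pow_eq_one, hk]
    obtain ⟨c, hc⟩ := Nat.modEq_zero_iff_dvd.mp hf1
    exact ⟨c, by rw [hc]; ring⟩

/-- A `p`-element normalising a Sylow `p`-subgroup lies in it. -/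
theorem mem_sylow_of_normalizes (P : Sylow p G) {u : G}
    (hu : u ∈ Subgroup.normalizer ((P : Subgroup G) : Set G)) (hk : ∃ k : ℕ, u ^ p ^ k = 1) :
    u ∈ (P : Subgroup G) := by
  obtain ⟨k, hk⟩ := hk
  have hU : IsPGroup p (Subgroup.zpowers u) := by
    rw [IsPGroup.iff_card]
    obtain ⟨j, -, hj⟩ := (Nat.dvd_prime_pow Fact.out).mp (orderOf_dvd_of_pow_eq_one hk)
    exact ⟨j, by rw [Nat.card_zpowers, hj]⟩
  have hsup := hU.to_sup_of_normal_right' P.isPGroup' (Subgroup.zpowers_le.mpr hu)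
  have := P.is_maximal' hsup le_sup_right
  rw [← this]
  exact Subgroup.mem_sup_left (Subgroup.mem_zpowers u)

/-- An automorphism of a cyclic `p`-group fixing a nontrivial element, or trivial modulo a proper
subgroup, has a `p`-power order. -/
theorem exists_pow_mem_centralizer {P : Subgroup G} (hP : IsPGroup p P) (hcyc : IsCyclic P) {n : G}
    (hn : n ∈ Subgroup.normalizer (P : Set G))
    (h : (∃ a ∈ P, a ≠ 1 ∧ n * a = a * n) ∨
      (∃ Q < P, ∀ a ∈ P, n * a * n⁻¹ * a⁻¹ ∈ Q)) :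
    ∃ k : ℕ, n ^ p ^ k ∈ Subgroup.centralizer (P : Set G) := by
  have hp : p.Prime := Fact.out
  obtain ⟨⟨c, hc⟩, hgen⟩ := hcyc.exists_generator
  have hgen' : ∀ r ∈ P, r ∈ Subgroup.zpowers c := by
    intro r hr
    obtain ⟨m, hm⟩ := Subgroup.mem_zpowers_iff.1 (hgen ⟨r, hr⟩)
    exact ⟨m, by simpa using congrArg Subtype.val hm⟩
  obtain ⟨k, hk⟩ := IsPGroup.iff_orderOf.1 hP ⟨c, hc⟩
  rw [Subgroup.orderOf_mk] at hk
  obtain ⟨i, hi⟩ := Subgroup.mem_zpowers_iff.1 (hgen' _ ((Subgroup.mem_normalizer_iff.1 hn c).1 hc))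
  have hkey : k = 0 ∨ (p : ℤ) ∣ i - 1 := by
    rcases Nat.eq_zero_or_pos k with hk0 | hk0
    · exact Or.inl hk0
    right
    rcases h with ⟨a, ha, ha1, hna⟩ | ⟨Q, hQ, hQa⟩
    · obtain ⟨j, rfl⟩ := Subgroup.mem_zpowers_iff.1 (hgen' a ha)
      have hfix : c ^ (i * j) = c ^ j := by
        have : n * c ^ j * n⁻¹ = c ^ (i * j) := by rw [← conj_zpow, ← hi, ← zpow_mul]
        rw [← this, hna, mul_inv_cancel_right]
      rw [zpow_eq_zpow_iff_modEq, hk, Int.modEq_iff_dvd] at hfix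
      by_contra hd
      apply ha1
      rw [← orderOf_dvd_iff_zpow_eq_one, hk]
      push_cast at hfix ⊢
      have h' : ((p : ℤ) ^ k) ∣ j * (i - 1) := by
        rw [← dvd_neg] at hfix
        have : -(j - i * j) = j * (i - 1) := by ring
        rwa [this] at hfix
      have hcop : IsCoprime ((p : ℤ) ^ k) (i - 1) :=
        (((Nat.prime_iff_prime_int.mp hp).coprime_iff_not_dvd).mpr hd).pow_left
      exact hcop.dvd_of_dvd_mul_right h'
    · by_contra hd
      apply hQ.not_ge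
      have hcQ : c ^ (i - 1) ∈ Q := by
        have := hQa c hc
        rw [← hi] at this
        rwa [zpow_sub_one]
      have hco : IsCoprime ((p : ℤ) ^ k) (i - 1) :=
        (((Nat.prime_iff_prime_int.mp hp).coprime_iff_not_dvd).mpr hd).pow_left
      obtain ⟨u, v, huv⟩ := hco
      have hc' : c = (c ^ (i - 1)) ^ v := by
        rw [← zpow_mul]
        conv_lhs => rw [← zpow_one c, ← huv, zpow_add, mul_comm u, zpow_mul]
        rw [show c ^ ((p : ℤ) ^ k) = 1 by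
          rw [← orderOf_dvd_iff_zpow_eq_one, hk]; push_cast; exact dvd_refl _,
          one_zpow, one_mul, mul_comm]
      intro r hr
      obtain ⟨m, rfl⟩ := Subgroup.mem_zpowers_iff.1 (hgen' r hr)
      rw [hc']; exact Q.zpow_mem (Q.zpow_mem hcQ v) m
  refine ⟨k, ?_⟩
  rw [Subgroup.mem_centralizer_iff]
  intro r hr
  obtain ⟨m, rfl⟩ := Subgroup.mem_zpowers_iff.1 (hgen' r hr)
  have hpow : ∀ e : ℕ, n ^ e * c * (n ^ e)⁻¹ = c ^ (i ^ e) := by
    intro e
    induction e with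
    | zero => simp
    | succ e ih =>
      calc n ^ (e + 1) * c * (n ^ (e + 1))⁻¹ = n * (n ^ e * c * (n ^ e)⁻¹) * n⁻¹ := by
            rw [pow_succ']; group
        _ = (c ^ i) ^ (i ^ e) := by rw [ih, ← conj_zpow, hi]
        _ = c ^ (i ^ (e + 1)) := by rw [← zpow_mul, pow_succ']
  have hfix : n ^ p ^ k * c * (n ^ p ^ k)⁻¹ = c := by
    rw [hpow]
    conv_rhs => rw [← zpow_one c]
    rw [zpow_eq_zpow_iff_modEq, hk, Int.modEq_iff_dvd]
    push_cast
    rcases hkey with h0 | hd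
    · subst h0; simp
    · have h2 := dvd_sub_pow_of_dvd_sub (R := ℤ) hd k
      rw [one_pow] at h2
      rw [← dvd_neg, neg_sub]
      exact (pow_dvd_pow _ (Nat.le_succ k)).trans h2
  have hcm : Commute (n ^ p ^ k) c := by
    calc n ^ p ^ k * c = n ^ p ^ k * c * (n ^ p ^ k)⁻¹ * n ^ p ^ k := by group
      _ = c * n ^ p ^ k := by rw [hfix]
  exact (hcm.zpow_right m).eq.symm

end CfsgLib.PTools69
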