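/- Commuting pairs of `π`-elements in cosets: as many `π`-classes in a coset as invariant ones. -/
import Cfsg.Agent.PiClasses69.Parts

namespace CfsgLib.PiClasses69

open scoped Classical

variable {G : Type*} [Group G] [Finite G] (π : Set ℕ)

/-- Commuting pairs of an element of `M` and a `π`-element of the coset `x M`. -/
noncomputable def cosetPairs (M : Subgroup G) (x : G) : ℕ :=
  Nat.card {p : G × G // p.1 ∈ M ∧ x⁻¹ * p.2 ∈ M ∧ IsPi π p.2 ∧ Commute p.1 p.2}

/-- Commuting pairs in `M` with second entry a `π`-element centralised in the coset `x M`. -/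
noncomputable def invariantPairs (M : Subgroup G) (x : G) : ℕ :=
  Nat.card {p : G × G // p.1 ∈ M ∧ p.2 ∈ M ∧ IsPi π p.2 ∧ Commute p.1 p.2 ∧
    ∃ z, x⁻¹ * z ∈ M ∧ Commute z p.2}

theorem coset_change {M : Subgroup G} {x x' : G} (h : x⁻¹ * x' ∈ M) (z : G) :
    x'⁻¹ * z ∈ M ↔ x⁻¹ * z ∈ M := by
  constructor
  · intro hz
    have := M.mul_mem h hz
    rwa [mul_assoc, mul_inv_cancel_left] at this
  · intro hz
    have := M.mul_mem (M.inv_mem h) hz
    rwa [mul_inv_rev, inv_inv, mul_assoc, mul_inv_cancel_left] at this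

omit [Finite G] in
theorem mem_cm {M : Subgroup G} {w g : G} :
    g ∈ M ⊓ Subgroup.centralizer ({w} : Set G) ↔ g ∈ M ∧ Commute g w := by
  rw [Subgroup.mem_inf, Subgroup.mem_centralizer_singleton_iff]
  exact and_congr_right fun _ => ⟨fun h => h, fun h => h⟩

/-- The number of commuting pairs of a coset agrees with that of invariant classes. -/
theorem cosetPairs_eq_invariantPairs (n : ℕ) : ∀ (M : Subgroup G), Nat.card M ≤ n → ∀ x : G,
    IsPi π x → x ∈ Subgroup.normalizer (M : Set G) → cosetPairs π M x = invariantPairs π M x := by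
  induction n with
  | zero => intro M hM; exact absurd hM (by have := Nat.card_pos (α := M); omega)
  | succ n ih =>
    intro M hM x hx hn
    let W := {w : G // w ∈ M ∧ IsPiCompl π w}
    let a : W → ℕ := fun w => Nat.card {p : G × G // (p.1 ∈ M ∧ Commute p.1 w.1) ∧
      (x⁻¹ * p.2 ∈ M ∧ Commute p.2 w.1) ∧ IsPi π p.2 ∧ Commute p.1 p.2}
    let b : W → ℕ := fun w => Nat.card {p : G × G // (p.1 ∈ M ∧ Commute p.1 w.1) ∧
      (p.2 ∈ M ∧ Commute p.2 w.1) ∧ IsPi π p.2 ∧ Commute p.1 p.2 ∧
        ∃ z, (x⁻¹ * z ∈ M ∧ Commute z w.1) ∧ Commute z p.2}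
    haveI : Fintype W := Fintype.ofFinite W
    -- all commuting pairs, in two ways
    let Aall := {p : G × G // p.1 ∈ M ∧ x⁻¹ * p.2 ∈ M ∧ Commute p.1 p.2}
    let Ball := {p : G × G // p.1 ∈ M ∧ p.2 ∈ M ∧ Commute p.1 p.2 ∧
      ∃ z, x⁻¹ * z ∈ M ∧ Commute z p.2}
    have hA : Nat.card Aall = ∑ w, a w := by
      rw [← Nat.card_sigma]
      apply Nat.card_congr
      exact
        { toFun := fun p => ⟨⟨piComplPart π p.1.2, piComplPart_mem hx hn p.2.2.1,
              isPiCompl_piComplPart π _⟩, ⟨(p.1.1, piPart π p.1.2),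
            ⟨p.2.1, commute_piComplPart π p.2.2.2⟩, ⟨by
              have h := piPart_mul π p.1.2
              have h2 : piPart π p.1.2 = p.1.2 * (piComplPart π p.1.2)⁻¹ :=
                eq_mul_inv_of_mul_eq h
              rw [h2, ← mul_assoc]
              exact M.mul_mem p.2.2.1 (M.inv_mem (piComplPart_mem hx hn p.2.2.1)),
              commute_parts π _⟩, isPi_piPart π _, commute_piPart π p.2.2.2⟩⟩
          invFun := fun q => ⟨(q.2.1.1, q.2.1.2 * q.1.1), q.2.2.1.1, by
              rw [← mul_assoc]; exact M.mul_mem q.2.2.2.1.1 q.1.2.1,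
            q.2.2.2.2.2.mul_right q.2.2.1.2⟩
          left_inv := fun p => Subtype.ext (Prod.ext rfl (piPart_mul π p.1.2))
          right_inv := fun ⟨⟨w, hw1, hw2⟩, ⟨⟨m, y⟩, hm, ⟨hy1, hy2⟩, hy3, hc⟩⟩ => by
            obtain ⟨e1, e2⟩ := piPart_of_commute π hy3 hw2 hy2
            exact Sigma.subtype_ext (Subtype.ext e2) (Prod.ext rfl e1) }
    have hB : Nat.card Ball = ∑ w, b w := by
      rw [← Nat.card_sigma]
      apply Nat.card_congr
      exact
        { toFun := fun p => ⟨⟨piComplPart π p.1.2,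
              M.mul_mem (M.inv_mem (M.pow_mem p.2.2.1 _)) p.2.2.1, isPiCompl_piComplPart π _⟩,
            ⟨(p.1.1, piPart π p.1.2),
            ⟨p.2.1, commute_piComplPart π p.2.2.2.1⟩, ⟨M.pow_mem p.2.2.1 _, commute_parts π _⟩,
            isPi_piPart π _, commute_piPart π p.2.2.2.1, by
              obtain ⟨z, hz1, hz2⟩ := p.2.2.2.2
              exact ⟨z, ⟨hz1, commute_piComplPart π hz2⟩, commute_piPart π hz2⟩⟩⟩
          invFun := fun q => ⟨(q.2.1.1, q.2.1.2 * q.1.1), q.2.2.1.1,
            M.mul_mem q.2.2.2.1.1 q.1.2.1, q.2.2.2.2.2.1.mul_right q.2.2.1.2, by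
              obtain ⟨z, ⟨hz1, hz2⟩, hz3⟩ := q.2.2.2.2.2.2
              exact ⟨z, hz1, hz3.mul_right hz2⟩⟩
          left_inv := fun p => Subtype.ext (Prod.ext rfl (piPart_mul π p.1.2))
          right_inv := fun ⟨⟨w, hw1, hw2⟩, ⟨⟨m, y⟩, hm, ⟨hy1, hy2⟩, hy3, hc, hz⟩⟩ => by
            obtain ⟨e1, e2⟩ := piPart_of_commute π hy3 hw2 hy2
            exact Sigma.subtype_ext (Subtype.ext e2) (Prod.ext rfl e1) }
    have hAB : Nat.card Aall = Nat.card Ball := by
      let z : G → G := fun v => if h : ∃ z, x⁻¹ * z ∈ M ∧ Commute z v then h.choose else x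
      have hz : ∀ v, (∃ z, x⁻¹ * z ∈ M ∧ Commute z v) → x⁻¹ * z v ∈ M ∧ Commute (z v) v := by
        intro v h; simp only [z, dif_pos h]; exact h.choose_spec
      apply Nat.card_congr
      exact
        { toFun := fun p => ⟨((z p.1.1)⁻¹ * p.1.2, p.1.1), by
              have h := hz _ ⟨p.1.2, p.2.2.1, p.2.2.2.symm⟩
              exact ⟨(coset_change h.1 _).mpr p.2.2.1, p.2.1,
                (h.2.inv_left).mul_left p.2.2.2.symm, p.1.2, p.2.2.1, p.2.2.2.symm⟩⟩
          invFun := fun q => ⟨(q.1.2, z q.1.2 * q.1.1), by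
              have h := hz _ q.2.2.2.2
              exact ⟨q.2.2.1, by rw [← mul_assoc]; exact M.mul_mem h.1 q.2.1,
                (h.2.mul_left q.2.2.2.1).symm⟩⟩
          left_inv := fun p => Subtype.ext (Prod.ext rfl (mul_inv_cancel_left _ _))
          right_inv := fun q => Subtype.ext (Prod.ext (inv_mul_cancel_left _ _) rfl) }
    have hsum : ∑ w, a w = ∑ w, b w := by rw [← hA, ← hB, hAB]
    let Cent : W → Prop := fun w =>
      (∀ m ∈ M, Commute m w.1) ∧ ∃ z, x⁻¹ * z ∈ M ∧ Commute z w.1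
    have hne : ∀ w, ¬ Cent w → a w = b w := by
      intro w hw
      by_cases hz : ∃ z, x⁻¹ * z ∈ M ∧ Commute z w.1
      · obtain ⟨z, hz1, hz2⟩ := hz
        set M' := M ⊓ Subgroup.centralizer ({w.1} : Set G) with hM'
        set x' := piPart π z with hx'
        have hx1 : x⁻¹ * x' ∈ M := by
          have h2 : x' = z * (piComplPart π z)⁻¹ := eq_mul_inv_of_mul_eq (piPart_mul π z)
          rw [h2, ← mul_assoc]
          exact M.mul_mem hz1 (M.inv_mem (piComplPart_mem hx hn hz1))
        have hx2 : Commute x' w.1 := (commute_piPart π hz2.symm).symm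
        have hn' : x' ∈ Subgroup.normalizer (M' : Set G) := by
          have hxM : x' ∈ Subgroup.normalizer (M : Set G) := by
            have := (Subgroup.normalizer (M : Set G)).mul_mem hn (Subgroup.le_normalizer hx1)
            rwa [mul_inv_cancel_left] at this
          rw [Subgroup.mem_normalizer_iff]
          intro g
          have e : ∀ g, Commute g w.1 ↔ Commute (x' * g * x'⁻¹) w.1 := by
            intro g
            constructor
            · intro h; exact (hx2.mul_left h).mul_left hx2.inv_left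
            · intro h
              have := (hx2.inv_left.mul_left h).mul_left hx2
              simpa [mul_assoc] using this
          simp only [SetLike.mem_coe, hM', mem_cm, ← e g]
          rw [Subgroup.mem_normalizer_iff.mp hxM g]
        have hlt : Nat.card M' ≤ n := by
          have hle : M' ≤ M := inf_le_left
          have hne' : M' ≠ M := fun e => hw ⟨fun m hm => (mem_cm.mp (e.symm ▸ hm : m ∈ M')).2,
            ⟨z, hz1, hz2⟩⟩
          have : Nat.card M' < Nat.card M := by
            by_contra h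
            exact hne' (Subgroup.eq_of_le_of_card_ge hle (not_lt.mp h))
          omega
        have hmem : ∀ y, x'⁻¹ * y ∈ M' ↔ (x⁻¹ * y ∈ M ∧ Commute y w.1) := by
          intro y
          rw [hM', mem_cm, coset_change hx1]
          refine and_congr_right fun _ => ⟨fun h => ?_, fun h => hx2.inv_left.mul_left h⟩
          have := hx2.mul_left h
          rwa [mul_inv_cancel_left] at this
        have := ih M' hlt x' (isPi_piPart π z) hn'
        simp only [cosetPairs, invariantPairs] at this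
        simp only [a, b]
        refine (Nat.card_congr (Equiv.subtypeEquivRight ?_)).trans (this.trans
          (Nat.card_congr (Equiv.subtypeEquivRight ?_)))
        · intro p; rw [hmem, hM', mem_cm]
        · intro p; simp only [hmem]; simp only [hM', mem_cm]
      · simp only [a, b]
        have e1 : IsEmpty {p : G × G // (p.1 ∈ M ∧ Commute p.1 w.1) ∧
            (x⁻¹ * p.2 ∈ M ∧ Commute p.2 w.1) ∧ IsPi π p.2 ∧ Commute p.1 p.2} :=
          ⟨fun p => hz ⟨p.1.2, p.2.2.1⟩⟩
        have e2 : IsEmpty {p : G × G // (p.1 ∈ M ∧ Commute p.1 w.1) ∧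
            (p.2 ∈ M ∧ Commute p.2 w.1) ∧ IsPi π p.2 ∧ Commute p.1 p.2 ∧
              ∃ z, (x⁻¹ * z ∈ M ∧ Commute z w.1) ∧ Commute z p.2} :=
          ⟨fun p => by obtain ⟨z, hz', -⟩ := p.2.2.2.2.2; exact hz ⟨z, hz'⟩⟩
        rw [Nat.card_of_isEmpty, Nat.card_of_isEmpty]
    have hcent : ∀ w, Cent w → a w = cosetPairs π M x ∧ b w = invariantPairs π M x := by
      rintro w ⟨hw, z0, hz1, hz2⟩
      have hall : ∀ y, x⁻¹ * y ∈ M → Commute y w.1 := by
        intro y hy
        have := hz2.mul_left (hw _ ((coset_change hz1 _).mpr hy))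
        rwa [mul_inv_cancel_left] at this
      simp only [a, b, cosetPairs, invariantPairs]
      refine ⟨Nat.card_congr (Equiv.subtypeEquivRight fun p => ?_),
        Nat.card_congr (Equiv.subtypeEquivRight fun p => ?_)⟩
      · exact ⟨fun h => ⟨h.1.1, h.2.1.1, h.2.2⟩,
          fun h => ⟨⟨h.1, hw _ h.1⟩, ⟨h.2.1, hall _ h.2.1⟩, h.2.2⟩⟩
      · constructor
        · rintro ⟨h1, h2, h3, h4, z, hz, hz'⟩
          exact ⟨h1.1, h2.1, h3, h4, z, hz.1, hz'⟩
        · rintro ⟨h1, h2, h3, h4, z, hz, hz'⟩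
          exact ⟨⟨h1, hw _ h1⟩, ⟨h2, hw _ h2⟩, h3, h4, z, ⟨hz, hall _ hz⟩, hz'⟩
    rw [← Finset.sum_filter_add_sum_filter_not Finset.univ Cent,
      ← Finset.sum_filter_add_sum_filter_not Finset.univ Cent b,
      Finset.sum_congr rfl (fun w hw => hne w (Finset.mem_filter.mp hw).2)] at hsum
    have hsum' := Nat.add_right_cancel hsum
    rw [Finset.sum_congr rfl (fun w hw => (hcent w (Finset.mem_filter.mp hw).2).1),
      Finset.sum_congr rfl (fun w hw => (hcent w (Finset.mem_filter.mp hw).2).2),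
      Finset.sum_const, Finset.sum_const, smul_eq_mul, smul_eq_mul] at hsum'
    refine Nat.eq_of_mul_eq_mul_left (Finset.card_pos.mpr ?_) hsum'
    exact ⟨⟨1, M.one_mem, isPiCompl_one⟩, Finset.mem_filter.mpr ⟨Finset.mem_univ _,
      fun m _ => Commute.one_right m, x, by simp, Commute.one_right x⟩⟩

end CfsgLib.PiClasses69
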